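import Cfsg.Agent.Lib.Compute.Perm
import Cfsg.Agent.Lib.Compute.ActionImage
import Cfsg.Agent.Lib.Compute.Twin
import Cfsg.Agent.Lib.CosetTable.HeSp44.Stab

/-! Generated certificates: the centraliser of an involution of He and of a transvection of `L₅(2)`. -/

set_option autoImplicit false
set_option maxRecDepth 10000

namespace Cfsg.Agent.Lib.CosetTable.HeInvCent

open Cfsg.Agent.Lib.Compute

/-- the involution on the orbit of size 136 -/
def invCode : ℕ := 0x7f867b838477808187667c7d85765870827a5251715073784e6d6e4b6854486b677e44463e6037623c5e5d5a345c4579324d306a2e7574722b6f56296c31286947645965243d23262263425f1f381b3a6136185b17574a551553141e4f214c4910400f43413f2a0c3b2c0b1a391c0a3533082f2d060e0727251204201d1902161113010d03090500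

theorem twins_bound : Nat.ble (twins (permOps 8 136) invCode invCode HeSp44.stabChain).length 512 = true := by
  decide +kernel

end Cfsg.Agent.Lib.CosetTable.HeInvCent
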